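/-
For a short exact sequence 0 → A → B → F → 0 with A, B invertible on an integral scheme,
B ⊗ Fitt₀(F) ≅ A.
-/
import Groth.Agent.PlaneCurve.ZeroSeq
import Groth.Agent.FittLib.Sheaf
import Groth.Agent.FittLib.Basic
import Groth.Agent.BlowCech.UnitSES
import Groth.Agent.SymAlg.InvDual
import Groth.Agent.W7See.SubLT

set_option autoImplicit false
set_option linter.style.haveILetI false
set_option backward.isDefEq.respectTransparency false
set_option backward.isDefEq.respectTransparency.types false

universe u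

open CategoryTheory CategoryTheory.Limits AlgebraicGeometry TopologicalSpace Opposite
open Groth.Agent.CohFinite
open Groth.Agent.QC (res resO res_res res_self res_smul resO_resO resO_self app_res)
open TMul (IsGen val tm)

noncomputable section

namespace Groth.Agent.FittInv

/-- The zero-th Fitting ideal of a cyclic module. -/
theorem ideal_cyclic {R M : Type u} [CommRing R] [AddCommGroup M] [Module R M] (m : M) (t : R)
    (hm : Submodule.span R {m} = ⊤) (ht : ∀ r : R, r • m = 0 ↔ r ∈ Ideal.span {t}) :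
    Fitt.ideal R M 0 = Ideal.span {t} := by
  haveI : Module.Finite R M := ⟨⟨{m}, by simpa using hm⟩⟩
  let x : Fin 1 → M := fun _ => m
  have hx : Submodule.span R (Set.range x) = ⊤ := by simpa [x, Set.range_const] using hm
  rw [FittLib.ideal_eq_minors x hx]
  simp only [Fintype.card_fin, Nat.sub_zero]
  apply le_antisymm
  · refine FittLib.minors_le fun z e hz => ?_
    have h := FittLib.mem_rel.1 (hz 0)
    simp only [Fin.sum_univ_one, x] at h
    have he : e 0 = 0 := Subsingleton.elim _ _
    simp [FittLib.minor, Matrix.det_fin_one, he, (ht _).1 h]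
  · rw [Ideal.span_le, Set.singleton_subset_iff]
    have hz : ∀ j : Fin 1, (fun _ : Fin 1 => t) ∈ FittLib.rel R x := fun j => by
      rw [FittLib.mem_rel]
      simpa [x] using (ht t).2 (Ideal.mem_span_singleton_self t)
    simpa [FittLib.minor, Matrix.det_fin_one] using FittLib.minor_mem_minors hz id

theorem exists_iso {X : Scheme.{u}} [IsIntegral X] {A B F : X.Modules} (hA : PicF.IsInvertible A)
    (hB : PicF.IsInvertible B) (hF : Coh.IsQCoh F) (hFt : CohB1.IsFT F) (c : A ⟶ B) (p : B ⟶ F)
    (w : c ≫ p = 0) (hS : (ShortComplex.mk c p w).ShortExact) :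
    Nonempty (CohB1.tensorMod B (ClSub.idealMod (Fitt.sheafIdeal F 0)) ≅ A) := by
  haveI : Mono c := hS.mono_f
  haveI : Epi p := hS.epi_g
  have hBq := TMul.isQCoh_of_isInvertible hB
  obtain ⟨M, hM, ⟨ε⟩⟩ := SymAlg.exists_inverse hA
  let L := CohB1.tensorMod B M
  have hL : PicF.IsInvertible L := TMul.isInvertible_tensorMod hB hM
  let s : Coh.structureModule X ⟶ L := ε.inv ≫ tmap c M
  have key : ∀ x : X, ∃ (U : X.affineOpens) (e : Γ(L, U.1)) (r t : Γ(X, U.1)), x ∈ U.1 ∧ IsGen e ∧
      val s U.1 = r • e ∧ r ≠ 0 ∧ Ideal.span {r} = Ideal.span {t} ∧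
      (Fitt.sheafIdeal F 0).ideal U = Ideal.span {t} := by
    intro x
    obtain ⟨V₁, a, hxa, ha⟩ := TMul.exists_isGen hA x
    obtain ⟨V₂, b, hxb, hb⟩ := TMul.exists_isGen hB x
    obtain ⟨V₃, m, hxm, hm⟩ := TMul.exists_isGen hM x
    obtain ⟨U, hU, hxU, hle⟩ := exists_isAffineOpen_mem_and_subset (U := V₁ ⊓ V₂ ⊓ V₃) (x := x)
      ⟨⟨hxa, hxb⟩, hxm⟩
    have h1 : U ≤ V₁ := fun y hy => (hle hy).1.1
    have h2 : U ≤ V₂ := fun y hy => (hle hy).1.2
    have h3 : U ≤ V₃ := fun y hy => (hle hy).2
    have haU := ha.res h1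
    have hbU := hb.res h2
    have hmU := hm.res h3
    set a' := res A h1 a
    set b' := res B h2 b
    set m' := res M h3 m
    obtain ⟨t, ht⟩ := (hbU U le_rfl).2 (c.app U a')
    change t • res B le_rfl b' = _ at ht
    rw [res_self] at ht
    -- the generator of `A ⊗ M` corresponding to one
    have hone : IsGen (val ε.inv U) := by
      have := W7See.isGen_app ε.symm (TMul.isGen_one (X := X) U)
      exact this
    obtain ⟨u, hu⟩ := (TMul.isGen_tm haU hmU U le_rfl).2 (val ε.inv U)
    obtain ⟨v, hv⟩ := (hone U le_rfl).2 (tm a' m')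
    change u • res _ le_rfl (tm a' m') = _ at hu
    change v • res _ le_rfl (val ε.inv U) = _ at hv
    rw [res_self] at hu hv
    have huv : v * u = 1 := by
      refine (TMul.isGen_tm haU hmU U le_rfl).1 ?_
      show (v * u) • res _ le_rfl (tm a' m') = (1 : Γ(X, U)) • res _ le_rfl (tm a' m')
      rw [res_self, mul_smul, hu, hv, one_smul]
    haveI : Nonempty U := ⟨⟨x, hxU⟩⟩
    have ht0 : t ≠ 0 := by
      intro h0
      have h : c.app U a' = c.app U 0 := by rw [← ht, h0, zero_smul, map_zero]
      have ha0 : a' = 0 := Groth.Agent.QC.app_injective_of_mono c U h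
      have h' : (1 : Γ(X, U)) = 0 := by
        refine (haU U le_rfl).1 ?_
        show (1 : Γ(X, U)) • res A le_rfl a' = (0 : Γ(X, U)) • res A le_rfl a'
        rw [res_self, ha0, smul_zero, smul_zero]
      exact one_ne_zero h'
    have hval : val s U = (u * t) • tm b' m' := by
      show val (ε.inv ≫ tmap c M) U = _
      rw [TMul.val_comp, ← hu, Scheme.Modules.Hom.app_smul, tmap_tm, ← ht, TMul.smul_tm, smul_smul]
    refine ⟨⟨U, hU⟩, tm b' m', u * t, t, hxU, TMul.isGen_tm hbU hmU, hval, ?_, ?_, ?_⟩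
    · intro h0
      apply ht0
      calc t = v * u * t := by rw [huv, one_mul]
        _ = 0 := by rw [mul_assoc, h0, mul_zero]
    · exact Ideal.span_singleton_mul_left_unit (IsUnit.of_mul_eq_one v (by rw [mul_comm, huv])) t
    · rw [FittLib.sheafIdeal_ideal hF hFt]
      refine ideal_cyclic (p.app U b') t ?_ fun r => ?_
      · rw [Submodule.eq_top_iff']
        intro y
        obtain ⟨y', rfl⟩ := Groth.Agent.QC.app_surjective_of_epi hU hBq hF p y
        obtain ⟨r, hr⟩ := (hbU U le_rfl).2 y'
        change r • res B le_rfl b' = _ at hr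
        rw [res_self] at hr
        rw [← hr, Scheme.Modules.Hom.app_smul]
        exact Submodule.smul_mem _ _ (Submodule.mem_span_singleton_self _)
      · rw [← Scheme.Modules.Hom.app_smul, Ideal.mem_span_singleton']
        constructor
        · intro h
          obtain ⟨z, hz⟩ := BlowCech.exists_of_app_eq_zero hS U (r • b') h
          obtain ⟨q, hq⟩ := (haU U le_rfl).2 z
          change q • res A le_rfl a' = z at hq
          rw [res_self] at hq
          change c.app U z = r • b' at hz
          rw [← hq, Scheme.Modules.Hom.app_smul, ← ht, smul_smul] at hz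
          refine ⟨q, (hbU U le_rfl).1 ?_⟩
          show (q * t) • res B le_rfl b' = r • res B le_rfl b'
          rw [res_self]; exact hz
        · rintro ⟨q, rfl⟩
          rw [mul_smul, ht, ← Scheme.Modules.Hom.app_smul]
          exact congrArg (fun φ : A ⟶ F => φ.app U (q • a')) w
  have hI : PicF2.zeroScheme L s = Fitt.sheafIdeal F 0 := by
    choose U e r t hx he hv _ hspan hfit using key
    refine Scheme.IdealSheafData.ext_of_iSup_eq_top U ?_ fun x => ?_
    · exact top_le_iff.1 fun x _ => Opens.mem_iSup.2 ⟨x, hx x⟩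
    · rw [ZeroSch.ideal_zeroScheme_eq_span s hL (U x) (he x) (hv x), hfit x, hspan x]
  obtain ⟨θ⟩ := PlaneCurve.nonempty_ideal_iso hL s fun x => by
    obtain ⟨U, e, r, t, hx, he, hv, hr, -, -⟩ := key x
    exact ⟨U, e, r, hx, he, hv, hr⟩
  rw [hI] at θ
  let I := ClSub.idealMod (Fitt.sheafIdeal F 0)
  let J := CohB1.tensorMod B I
  let e₁ : CohB1.tensorMod I L ≅ CohB1.tensorMod J M :=
    (TMul.assocIso I B M).symm ≪≫ PicGrp.tensorModIso (TMul.commIso I B) (Iso.refl M)
  exact ⟨((TMul.leftUnitIso A).symm ≪≫ PicGrp.tensorModIso θ (Iso.refl A) ≪≫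
    PicGrp.tensorModIso e₁ (Iso.refl A) ≪≫ TMul.assocIso J M A ≪≫
    PicGrp.tensorModIso (Iso.refl J) (TMul.commIso M A ≪≫ ε) ≪≫ TMul.commIso J _ ≪≫ TMul.leftUnitIso J).symm⟩

end Groth.Agent.FittInv

end
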